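import Mathlib

set_option autoImplicit false
universe u
open MvPolynomial

namespace Groth.Agent.H5.Sep

section Mono
variable {k : Type*} [CommRing k] {σ : Type*}

/-- a variable is a nonzerodivisor modulo an ideal generated by powers of other variables -/
theorem mem_of_X_mul_mem (S : Set σ) (m : ℕ) (i : σ) (hi : i ∉ S)
    (y : MvPolynomial σ k)
    (h : X i * y ∈ Ideal.span ((fun j => (X j : MvPolynomial σ k) ^ m) '' S)) :
    y ∈ Ideal.span ((fun j => (X j : MvPolynomial σ k) ^ m) '' S) := by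
  classical
  have hset : (fun j => (X j : MvPolynomial σ k) ^ m) '' S =
      (fun s => monomial s (1 : k)) '' ((fun j => Finsupp.single j m) '' S) := by
    rw [Set.image_image]
    refine Set.image_congr fun j _ => ?_
    exact X_pow_eq_monomial
  rw [hset, mem_ideal_span_monomial_image] at h ⊢
  intro u hu
  have hu' : Finsupp.single i 1 + u ∈ (X i * y).support := by
    rw [support_X_mul]
    exact Finset.mem_map.mpr ⟨u, hu, rfl⟩
  obtain ⟨_, ⟨j, hjS, rfl⟩, hle⟩ := h _ hu'
  refine ⟨_, ⟨j, hjS, rfl⟩, ?_⟩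
  have hji : j ≠ i := fun e => hi (e ▸ hjS)
  intro t
  by_cases htj : t = j
  · subst htj
    have := hle t
    simpa [Finsupp.single_apply, hji.symm] using this
  · simp [Finsupp.single_apply, Ne.symm htj]

theorem mem_of_X_pow_mul_mem (S : Set σ) (m : ℕ) (i : σ) (hi : i ∉ S) (t : ℕ)
    (y : MvPolynomial σ k)
    (h : X i ^ t * y ∈ Ideal.span ((fun j => (X j : MvPolynomial σ k) ^ m) '' S)) :
    y ∈ Ideal.span ((fun j => (X j : MvPolynomial σ k) ^ m) '' S) := by
  induction t with
  | zero => simpa using h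
  | succ t ih =>
    apply ih
    apply mem_of_X_mul_mem S m i hi
    rw [← mul_assoc, ← pow_succ']
    exact h

/-- the annihilator condition for the powers `X_i ^ c` in a polynomial ring -/
theorem ann_cond_mvPolynomial {d : ℕ} (c : ℕ) (i : Fin d) (y : MvPolynomial (Fin d) k)
    (h : ((X i : MvPolynomial (Fin d) k) ^ c) ^ 2 * y ∈
      Ideal.span ((fun j => ((X j : MvPolynomial (Fin d) k) ^ c) ^ 8) '' {j | j < i})) :
    (X i : MvPolynomial (Fin d) k) ^ c * y ∈
      Ideal.span ((fun j => ((X j : MvPolynomial (Fin d) k) ^ c) ^ 8) '' {j | j < i}) := by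
  have hset : (fun j => ((X j : MvPolynomial (Fin d) k) ^ c) ^ 8) '' {j | j < i} =
      (fun j => (X j : MvPolynomial (Fin d) k) ^ (c * 8)) '' {j | j < i} := by
    refine Set.image_congr fun j _ => ?_
    rw [pow_mul]
  rw [hset] at h ⊢
  rw [← pow_mul] at h
  exact Ideal.mul_mem_left _ _
    (mem_of_X_pow_mul_mem {j | j < i} (c * 8) i (by simp) (c * 2) y h)

end Mono

section Pow
variable {Λ : Type*} [CommRing Λ]

/-- upgrade the annihilator condition from `π` to `π ^ c` -/
theorem ann_cond_pow (J : Ideal Λ) (π : Λ) (c : ℕ) (hc : 0 < c)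
    (h : ∀ y, π ^ 2 * y ∈ J → π * y ∈ J) (y : Λ) (hy : (π ^ c) ^ 2 * y ∈ J) :
    π ^ c * y ∈ J := by
  have key : ∀ (t : ℕ) (z : Λ), π ^ (t + 1) * z ∈ J → π * z ∈ J := by
    intro t
    induction t with
    | zero => intro z hz; simpa using hz
    | succ t ih =>
      intro z hz
      apply ih
      have h1 : π ^ 2 * (π ^ t * z) ∈ J := by
        have : π ^ 2 * (π ^ t * z) = π ^ (t + 1 + 1) * z := by ring
        rw [this]; exact hz
      have h2 := h _ h1
      have : π ^ (t + 1) * z = π * (π ^ t * z) := by ring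
      rw [this]; exact h2
  obtain ⟨c', rfl⟩ : ∃ c', c = c' + 1 := ⟨c - 1, by omega⟩
  have h1 : π ^ (c' + 1 + 1) * (π ^ c' * y) ∈ J := by
    have : π ^ (c' + 1 + 1) * (π ^ c' * y) = (π ^ (c' + 1)) ^ 2 * y := by ring
    rw [this]; exact hy
  have h2 := key (c' + 1) _ h1
  have : π ^ (c' + 1) * y = π * (π ^ c' * y) := by ring
  rw [this]; exact h2

end Pow

end Groth.Agent.H5.Sep
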