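import Mathlib
import Groth.Prelude.Def_Smoothing
import Groth.Agent.Lib.Helper8.StdEl.F
import Groth.Agent.Lib.Helper5.Des.X1

set_option autoImplicit false
universe u
open MvPolynomial

namespace Groth.Agent.H5.Sep

section Constr
variable {R A' : Type u} [CommRing R] [CommRing A'] [Algebra R A']
  {d s : ℕ} (xs : Fin d → A') (as : Fin s → A') (n : ℕ)

/-- the relations `x_i^n - Σ_j z_ij a_j` -/
noncomputable def relB (i : Fin d) : MvPolynomial (Fin d × Fin s) A' :=
  C (xs i) ^ n - ∑ j, X (i, j) * C (as j)

/-- the algebra `A'[z_ij]/(x_i^n - Σ_j z_ij a_j)` -/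
abbrev BB : Type u := MvPolynomial (Fin d × Fin s) A' ⧸ Ideal.span (Set.range (relB xs as n))

/-- the class of `z_ij` -/
noncomputable def zB (ij : Fin d × Fin s) : BB xs as n :=
  Ideal.Quotient.mk _ (X ij)

theorem algebraMap_BB (a : A') : algebraMap A' (BB xs as n) a = Ideal.Quotient.mk _ (C a) := rfl

theorem rel_BB (i : Fin d) :
    algebraMap A' (BB xs as n) (xs i) ^ n =
      ∑ j, zB xs as n (i, j) * algebraMap A' (BB xs as n) (as j) := by
  have h : Ideal.Quotient.mk (Ideal.span (Set.range (relB xs as n))) (relB xs as n i) = 0 :=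
    Ideal.Quotient.eq_zero_iff_mem.mpr (Ideal.subset_span ⟨i, rfl⟩)
  have h' : Ideal.Quotient.mk (Ideal.span (Set.range (relB xs as n)))
      (C (xs i) ^ n - ∑ j, X (i, j) * C (as j)) = 0 := h
  rw [map_sub, sub_eq_zero, map_pow, map_sum] at h'
  rw [algebraMap_BB, h']
  refine Finset.sum_congr rfl fun j _ => ?_
  rw [map_mul]; rfl

instance finitePresentation_BB_base : Algebra.FinitePresentation A' (BB xs as n) :=
  Algebra.FinitePresentation.quotient (by
    classical
    exact ⟨(Finset.univ.image (relB xs as n)), by simp⟩)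

theorem finitePresentation_BB [Algebra.FinitePresentation R A'] :
    Algebra.FinitePresentation R (BB xs as n) :=
  Algebra.FinitePresentation.trans R A' (BB xs as n)

theorem pderiv_relB (i i' : Fin d) (j : Fin s) :
    pderiv (i', j) (relB xs as n i) = if i = i' then - C (as j) else 0 := by
  classical
  unfold relB
  rw [map_sub, map_sum]
  have h1 : pderiv (i', j) ((C (xs i) : MvPolynomial (Fin d × Fin s) A') ^ n) = 0 := by
    rw [← map_pow]; exact pderiv_C
  have h2 : ∀ j', pderiv (i', j) ((X (i, j') : MvPolynomial (Fin d × Fin s) A') * C (as j')) =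
      if (i, j') = (i', j) then C (as j') else 0 := by
    intro j'
    rw [Derivation.leibniz, pderiv_C, smul_zero, zero_add, pderiv_X, smul_eq_mul, Pi.single_apply]
    by_cases h : (i, j') = (i', j)
    · rw [if_pos h, if_pos h, mul_one]
    · rw [if_neg h, if_neg h, mul_zero]
  rw [h1, zero_sub, Finset.sum_congr rfl fun j' _ => h2 j']
  by_cases hii : i = i'
  · subst hii
    rw [if_pos rfl]
    congr 1
    rw [Finset.sum_eq_single j]
    · simp
    · intro j' _ hj'
      rw [if_neg]
      intro h
      exact hj' (Prod.mk.inj h).2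
    · intro h; exact absurd (Finset.mem_univ j) h
  · rw [if_neg hii, neg_eq_zero]
    refine Finset.sum_eq_zero fun j' _ => ?_
    rw [if_neg]
    intro h
    exact hii (Prod.mk.inj h).1

theorem isElementaryStandard_BB (j : Fin s) :
    Smoothing.IsElementaryStandard A' (BB xs as n) (algebraMap A' (BB xs as n) (as j) ^ d) := by
  classical
  refine Groth.Agent.H8.StdEl.isElementaryStandard_of_finite (ι := Fin d × Fin s) (ρ := Fin d)
    (σ := Fin d) (relB xs as n) (Ideal.Quotient.mkₐ A' _) (Ideal.Quotient.mkₐ_surjective A' _)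
    ?_ (Function.Embedding.refl _) ⟨fun i => (i, j), fun i i' h => (Prod.mk.inj h).1⟩
    _ ((-1) ^ d) ?_ ?_
  · ext x
    rw [RingHom.mem_ker]
    exact Ideal.Quotient.eq_zero_iff_mem
  · have hmat : (Matrix.of fun i i' : Fin d => pderiv
        ((⟨fun i => (i, j), fun i i' h => (Prod.mk.inj h).1⟩ : Fin d ↪ Fin d × Fin s) i')
        (relB xs as n ((Function.Embedding.refl (Fin d)) i))) =
        Matrix.diagonal fun _ : Fin d => (- C (as j) : MvPolynomial (Fin d × Fin s) A') := by
      refine Matrix.ext fun i i' => ?_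
      show pderiv (i', j) (relB xs as n i) = _
      rw [pderiv_relB, Matrix.diagonal_apply]
    rw [hmat, Matrix.det_diagonal, Finset.prod_const, Finset.card_univ, Fintype.card_fin]
    show _ = (-1) ^ d * Ideal.Quotient.mk _ ((- C (as j)) ^ d)
    rw [map_pow, map_neg, algebraMap_BB]
    have hgen : ∀ y : BB xs as n, y ^ d = (-1) ^ d * (-y) ^ d := fun y => by
      rw [neg_pow y d, ← mul_assoc, ← mul_pow]; simp
    exact hgen _
  · intro a₁ _ ℓ
    refine Ideal.mem_sup_left (Ideal.mul_mem_left _ _ (Ideal.subset_span ⟨ℓ, rfl⟩))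

variable [Algebra.FinitePresentation R A']

/-- `B` is smooth over `R` at every prime not containing `a_j`, if `A'_{a_j}` is smooth over `R`. -/
theorem isSmoothAt_BB (j : Fin s) [Algebra.Smooth R (Localization.Away (as j))]
    (P : Ideal (BB xs as n)) [P.IsPrime] (hP : algebraMap A' (BB xs as n) (as j) ∉ P) :
    Algebra.IsSmoothAt R P := by
  have h1 : Algebra.IsSmoothAt A' P := by
    refine Groth.Agent.H8.StdEl.isSmoothAt_of_isStrictlyStandard
      (Groth.Agent.H8.StdEl.isElementaryStandard.isStrictlyStandard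
        (isElementaryStandard_BB xs as n j)) P ?_
    exact fun h => hP (Ideal.IsPrime.mem_of_pow_mem inferInstance _ h)
  have h2 : Algebra.IsSmoothAt R (P.comap (algebraMap A' (BB xs as n))) := by
    have hsm : Algebra.Smooth R (Localization.Away (as j)) := inferInstance
    have := (Algebra.basicOpen_subset_smoothLocus_iff_smooth (R := R) (A := A')
      (f := as j)).mpr hsm
    exact this (show (⟨P.comap (algebraMap A' (BB xs as n)), inferInstance⟩ : PrimeSpectrum A') ∈
      (PrimeSpectrum.basicOpen (as j) : Set _) from hP)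
  exact Groth.Agent.H5.Des.isSmoothAt_comp P h1 h2

theorem smooth_away_as (j : Fin s) [Algebra.Smooth R (Localization.Away (as j))] :
    Algebra.Smooth R (Localization.Away (algebraMap A' (BB xs as n) (as j))) := by
  haveI := finitePresentation_BB (R := R) xs as n
  rw [← Algebra.basicOpen_subset_smoothLocus_iff_smooth]
  intro P hP
  haveI := P.2
  exact isSmoothAt_BB (R := R) xs as n j P.asIdeal hP

theorem smooth_away_xs (hsm : ∀ j, Algebra.Smooth R (Localization.Away (as j))) (i : Fin d) :
    Algebra.Smooth R (Localization.Away (algebraMap A' (BB xs as n) (xs i))) := by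
  haveI := finitePresentation_BB (R := R) xs as n
  rw [← Algebra.basicOpen_subset_smoothLocus_iff_smooth]
  intro P hP
  haveI := P.2
  have hP' : algebraMap A' (BB xs as n) (xs i) ∉ P.asIdeal := hP
  obtain ⟨j, hj⟩ : ∃ j, algebraMap A' (BB xs as n) (as j) ∉ P.asIdeal := by
    by_contra hcon
    push Not at hcon
    apply hP'
    refine Ideal.IsPrime.mem_of_pow_mem inferInstance n ?_
    rw [rel_BB]
    exact Ideal.sum_mem _ fun j _ => Ideal.mul_mem_left _ _ (hcon j)
  haveI := hsm j
  exact isSmoothAt_BB (R := R) xs as n j P.asIdeal hj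

/-- maps out of `B` -/
theorem exists_lift_BB {T : Type*} [CommRing T] [Algebra R T] (ψ : A' →ₐ[R] T)
    (lam : Fin d × Fin s → T) (h : ∀ i, ψ (xs i) ^ n = ∑ j, lam (i, j) * ψ (as j)) :
    ∃ Ψ : BB xs as n →ₐ[R] T, ∀ a, Ψ (algebraMap A' (BB xs as n) a) = ψ a := by
  letI : Algebra A' T := ψ.toRingHom.toAlgebra
  haveI : IsScalarTower R A' T := IsScalarTower.of_algebraMap_eq fun r => (ψ.commutes r).symm
  have hker : ∀ x ∈ Ideal.span (Set.range (relB xs as n)),
      (aeval lam : MvPolynomial (Fin d × Fin s) A' →ₐ[A'] T) x = 0 := by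
    intro x hx
    have : Ideal.span (Set.range (relB xs as n)) ≤
        RingHom.ker (aeval lam : MvPolynomial (Fin d × Fin s) A' →ₐ[A'] T).toRingHom := by
      rw [Ideal.span_le]
      rintro _ ⟨i, rfl⟩
      show (aeval lam) (relB xs as n i) = 0
      unfold relB
      rw [map_sub, map_pow, map_sum, sub_eq_zero]
      simp only [map_mul, aeval_X, aeval_C]
      exact h i
    exact this hx
  refine ⟨(Ideal.Quotient.liftₐ (Ideal.span (Set.range (relB xs as n)))
    (aeval lam : MvPolynomial (Fin d × Fin s) A' →ₐ[A'] T) hker).restrictScalars R, fun a => ?_⟩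
  show (Ideal.Quotient.liftₐ (Ideal.span (Set.range (relB xs as n)))
    (aeval lam : MvPolynomial (Fin d × Fin s) A' →ₐ[A'] T) hker) (algebraMap A' _ a) = _
  rw [AlgHom.commutes]
  rfl

end Constr

end Groth.Agent.H5.Sep
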