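import Mathlib
import Groth.Prelude.Def_Smoothing
import Groth.Agent.Lib.Helper5.SmoothSubalg

set_option autoImplicit false
universe u

namespace Groth.Agent.H5.Sep

/-- A separable (geometrically reduced) field extension is ind-smooth. -/
theorem indSmooth_of_isGeometricallyReduced (k : Type u) [Field k] (K : Type u) [Field K]
    [Algebra k K] [Algebra.IsGeometricallyReduced k K] : Smoothing.IndSmooth k K := by
  classical
  intro A _ _ hfp f
  haveI := hfp
  obtain ⟨s, hs⟩ := (Algebra.FiniteType.out : (⊤ : Subalgebra k A).FG)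
  obtain ⟨S, hES, hSsm⟩ :=
    Groth.Agent.H5.exists_smooth_subalgebra_of_isGeometricallyReduced k K (s.image f)
  have hrange : ∀ a : A, f a ∈ S := by
    intro a
    have ha : a ∈ Algebra.adjoin k (s : Set A) := by rw [hs]; trivial
    have : f a ∈ (Algebra.adjoin k (s : Set A)).map f := ⟨a, ha, rfl⟩
    rw [AlgHom.map_adjoin] at this
    refine Algebra.adjoin_le ?_ this
    rintro _ ⟨x, hx, rfl⟩
    exact hES (by simpa using Finset.mem_image_of_mem f hx)
  exact ⟨S, inferInstance, inferInstance, hSsm, f.codRestrict S hrange, S.val, by ext a; rfl⟩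

/-- The singular ideal of a smooth algebra is the unit ideal. -/
theorem singularIdeal_eq_top {R B : Type u} [CommRing R] [CommRing B] [Algebra R B]
    [Algebra.Smooth R B] : Smoothing.singularIdeal R B = ⊤ := by
  unfold Smoothing.singularIdeal
  rw [Algebra.smoothLocus_eq_univ, Set.compl_univ, PrimeSpectrum.vanishingIdeal_empty]

/-- A factorization through a smooth algebra resolves the problem at any proper ideal. -/
theorem resolvable_of_smooth {R A Λ B : Type u} [CommRing R] [CommRing A] [Algebra R A]
    [CommRing Λ] [Algebra R Λ] (φ : A →ₐ[R] Λ) (𝔮 : Ideal Λ) (h𝔮 : 𝔮 ≠ ⊤)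
    [CommRing B] [Algebra R B] [Algebra.Smooth R B] (g : A →ₐ[R] B) (h : B →ₐ[R] Λ)
    (hgh : h.comp g = φ) : Smoothing.Resolvable R φ 𝔮 := by
  have htop : Smoothing.singRad R h = ⊤ := by
    unfold Smoothing.singRad
    rw [singularIdeal_eq_top, Ideal.map_top, Ideal.radical_top]
  refine ⟨B, inferInstance, inferInstance, inferInstance, g, h, hgh, ?_, ?_⟩
  · rw [htop]; exact le_top
  · rw [htop]
    exact fun hle => h𝔮 (top_le_iff.mp hle)

end Groth.Agent.H5.Sep
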