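import Mathlib
import Groth.Prelude.Def_Smoothing
import Groth.Agent.Lib.Helper5.Sep.A
import Groth.Agent.Lib.Helper8.SmLift.IndSmoothNil

set_option autoImplicit false
universe u
open TensorProduct

namespace Groth.Agent.H5.Sep

section Sing
variable {R A : Type u} [CommRing R] [CommRing A] [Algebra R A]

theorem mem_singularIdeal_iff (a : A) :
    a ∈ Smoothing.singularIdeal R A ↔
      (PrimeSpectrum.basicOpen a : Set (PrimeSpectrum A)) ⊆ Algebra.smoothLocus R A := by
  unfold Smoothing.singularIdeal
  rw [PrimeSpectrum.mem_vanishingIdeal]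
  constructor
  · intro h p hp
    by_contra hcon
    exact hp (h p hcon)
  · intro h p hp
    by_contra hcon
    exact hp (h hcon)

theorem smooth_away_of_mem_singularIdeal [Algebra.FinitePresentation R A] (a : A)
    (ha : a ∈ Smoothing.singularIdeal R A) : Algebra.Smooth R (Localization.Away a) :=
  Algebra.basicOpen_subset_smoothLocus_iff_smooth.mp ((mem_singularIdeal_iff a).mp ha)

theorem mem_singularIdeal_of_smooth_away [Algebra.FinitePresentation R A] (a : A)
    [h : Algebra.Smooth R (Localization.Away a)] : a ∈ Smoothing.singularIdeal R A :=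
  (mem_singularIdeal_iff a).mpr (Algebra.basicOpen_subset_smoothLocus_iff_smooth.mpr h)

end Sing

section Tower

/-- Over a formally smooth base extension `k → R`, the singular ideal over `R` is contained in the
singular ideal over `k`. -/
theorem singularIdeal_le_of_tower {k R B : Type u} [CommRing k] [CommRing R] [CommRing B]
    [Algebra k R] [Algebra R B] [Algebra k B] [IsScalarTower k R B] [Algebra.FormallySmooth k R] :
    Smoothing.singularIdeal R B ≤ Smoothing.singularIdeal k B := by
  unfold Smoothing.singularIdeal
  refine PrimeSpectrum.vanishingIdeal_anti_mono ?_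
  rw [Set.compl_subset_compl]
  intro p hp
  haveI : Algebra.FormallySmooth R (Localization.AtPrime p.asIdeal) := hp
  show Algebra.FormallySmooth k (Localization.AtPrime p.asIdeal)
  exact Algebra.FormallySmooth.comp k R _

end Tower

section BaseChange

/-- smoothness of `A_a` over `k` implies smoothness of `(R ⊗ A)_{1 ⊗ a}` over `R`. -/
theorem smooth_away_tmul {k R A : Type u} [CommRing k] [CommRing R] [CommRing A] [Algebra k R]
    [Algebra k A] (a : A) [Algebra.Smooth k (Localization.Away a)] :
    Algebra.Smooth R (Localization.Away ((1 : R) ⊗ₜ[k] a)) :=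
  Algebra.Smooth.of_equiv
    (IsLocalization.Away.tensorProductEquivTMulRight k R a (Localization.Away a))

end BaseChange

section DimZero

/-- The case `dim Λ_𝔮 = 0`: then `Λ_𝔮` is the residue field, hence ind-smooth over `k`. -/
theorem indSmooth_localization_of_dim_zero {k Λ : Type u} [Field k] [CommRing Λ] [Algebra k Λ]
    (𝔮 : Ideal Λ) [𝔮.IsPrime] [IsRegularLocalRing (Localization.AtPrime 𝔮)]
    [Algebra.IsGeometricallyReduced k 𝔮.ResidueField]
    (hd : ringKrullDim (Localization.AtPrime 𝔮) = 0) :
    Smoothing.IndSmooth k (Localization.AtPrime 𝔮) := by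
  have hfin : (IsLocalRing.maximalIdeal (Localization.AtPrime 𝔮)).spanFinrank = 0 := by
    have h1 := IsRegularLocalRing.spanFinrank_maximalIdeal (R := Localization.AtPrime 𝔮)
    rw [hd] at h1
    exact_mod_cast h1
  have hbot : IsLocalRing.maximalIdeal (Localization.AtPrime 𝔮) = ⊥ := by
    have hfg : (IsLocalRing.maximalIdeal (Localization.AtPrime 𝔮)).FG :=
      IsNoetherian.noetherian _
    exact (Submodule.spanFinrank_eq_zero_iff_eq_bot hfg).mp hfin
  have hbij : Function.Bijective (IsLocalRing.residue (Localization.AtPrime 𝔮)) := by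
    refine ⟨?_, IsLocalRing.residue_surjective⟩
    rw [injective_iff_map_eq_zero]
    intro x hx
    rw [IsLocalRing.residue_eq_zero_iff, hbot] at hx
    exact hx
  let l : Localization.AtPrime 𝔮 ≃+* 𝔮.ResidueField := RingEquiv.ofBijective _ hbij
  refine Groth.Agent.H8.SmLift.indSmooth_of_ringEquiv' (RingEquiv.refl k) l ?_
    (indSmooth_of_isGeometricallyReduced k 𝔮.ResidueField)
  intro r
  show IsLocalRing.residue (Localization.AtPrime 𝔮) (algebraMap k _ r) = algebraMap k _ r
  rw [IsScalarTower.algebraMap_apply k (Localization.AtPrime 𝔮) 𝔮.ResidueField]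
  rfl

end DimZero

end Groth.Agent.H5.Sep
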