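import Mathlib
import Groth.Agent.Lib.Helper5.SymLoc.C
import Groth.Agent.Lib.Helper5.SymSmooth.C

set_option autoImplicit false

namespace Groth.Agent.H5.Sep

open TensorProduct KaehlerDifferential Groth.Agent.H5.SymSmooth Groth.Agent.H5.SymLoc

universe u v w

section Main

variable {R : Type w} [CommRing R] {A : Type u} [CommRing A] [Algebra R A] (a : A)
  (A' : Type u) [CommRing A'] [Algebra A A'] [IsLocalization.Away a A'] [Algebra R A']
  [IsScalarTower R A A']
  {ι' : Type*} [Fintype ι'] [DecidableEq ι'] (x : ι' → A)
  {C : Type*} [CommRing C] [Algebra A C]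
  {ι : LinearMap.ker (piMap (R := R) x) →ₗ[A] C}
  (C' : Type v) [CommRing C'] [Algebra C C'] [Algebra A C'] [IsScalarTower A C C']
  [Algebra A' C'] [IsScalarTower A A' C'] [Algebra R C'] [IsScalarTower R A' C']
  [IsLocalization.Away (algebraMap A C a) C']

include a in
theorem smooth_and_free_of_away (hx : Submodule.span A (Set.range fun i => D R A (x i)) = ⊤)
    (h : IsSymmetricAlgebra ι) [Algebra.Smooth R A'] :
    Algebra.Smooth R C' ∧ Nonempty (Ω[C'⁄R] ≃ₗ[C'] (ι' → C')) := by
  have hx' : Submodule.span A' (Set.range fun i => D R A' (xLoc A' x i)) = ⊤ := by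
    have := span_eq_top_of_isLocalizedModule A' (Submonoid.powers a)
      (KaehlerDifferential.map R R A A') hx
    rw [← this, ← Set.range_comp]
    congr 2
    funext i
    simp [xLoc]
  obtain ⟨σ, hσ'⟩ := Module.projective_lifting_property (piMap (R := R) (xLoc A' x)) LinearMap.id
    (piMap_surjective _ hx')
  have hσ : ∀ ω, piMap (R := R) (xLoc A' x) (σ ω) = ω := fun ω => LinearMap.congr_fun hσ' ω
  haveI : Module.Projective A' (LinearMap.ker (piMap (R := R) (xLoc A' x))) :=
    projective_ker σ hσ
  haveI : Module.Finite A' (LinearMap.ker (piMap (R := R) (xLoc A' x))) :=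
    Module.Finite.of_surjective (rho σ hσ) (fun k => ⟨k.1, rho_ker σ hσ k⟩)
  haveI := isLocalizedModule_kerMap (R := R) a A' x
  have hsym := isSymmetricAlgebra_iotaLoc (A' := A') a (kerMap (R := R) A' x) C' h
  haveI : Algebra.FormallySmooth A' C' := formallySmooth_of_isSymmetricAlgebra hsym
  haveI : Algebra.FinitePresentation A' C' := finitePresentation_of_isSymmetricAlgebra hsym
  haveI : Algebra.Smooth A' C' := ⟨inferInstance, inferInstance⟩
  exact ⟨Algebra.Smooth.comp R A' C', nonempty_kaehler_equiv_pi (R := R) hsym (splitEquiv σ hσ)⟩

end Main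

section Final

/-- Enhanced form of `SymLoc.final_step`: the localization `C_a` of the symmetric algebra is
smooth over `R` with free module of differentials whenever `A_a` is smooth over `R`. -/
theorem final_step' {R A : Type u} [CommRing R] [CommRing A] [Algebra R A]
    {ι' : Type u} [Fintype ι'] [DecidableEq ι'] (x : ι' → A)
    (hx : Submodule.span A (Set.range fun i => D R A (x i)) = ⊤) (a : A)
    [Algebra.Smooth R (Localization.Away a)] :
    Algebra.Smooth R
      (Localization.Away (algebraMap A (SymmetricAlgebra A (LinearMap.ker (piMap (R := R) x))) a)) ∧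
    Nonempty (Ω[Localization.Away
        (algebraMap A (SymmetricAlgebra A (LinearMap.ker (piMap (R := R) x))) a)⁄R] ≃ₗ[
      Localization.Away (algebraMap A (SymmetricAlgebra A (LinearMap.ker (piMap (R := R) x))) a)]
      (ι' → Localization.Away
        (algebraMap A (SymmetricAlgebra A (LinearMap.ker (piMap (R := R) x))) a))) := by
  set C := SymmetricAlgebra A (LinearMap.ker (piMap (R := R) x)) with hC
  letI alg : Algebra (Localization.Away a) (Localization.Away (algebraMap A C a)) :=
    (Localization.awayMap (algebraMap A C) a).toAlgebra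
  have hmap : ∀ r : A, algebraMap (Localization.Away a) (Localization.Away (algebraMap A C a))
      (algebraMap A (Localization.Away a) r) =
      algebraMap C (Localization.Away (algebraMap A C a)) (algebraMap A C r) := by
    intro r
    change Localization.awayMap (algebraMap A C) a (algebraMap A (Localization.Away a) r) = _
    simp [Localization.awayMap, IsLocalization.Away.map, IsLocalization.map_eq]
  haveI t1 : IsScalarTower A (Localization.Away a) (Localization.Away (algebraMap A C a)) :=
    IsScalarTower.of_algebraMap_eq fun r => by
      rw [hmap, ← IsScalarTower.algebraMap_apply A C]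
  haveI t2 : IsScalarTower R (Localization.Away a) (Localization.Away (algebraMap A C a)) :=
    IsScalarTower.of_algebraMap_eq fun r => by
      rw [IsScalarTower.algebraMap_apply R A (Localization.Away a), hmap,
        ← IsScalarTower.algebraMap_apply R A C, ← IsScalarTower.algebraMap_apply R C]
  exact smooth_and_free_of_away (R := R) a (Localization.Away a) x
    (Localization.Away (algebraMap A C a)) hx
    (ι := SymmetricAlgebra.ι A _) SymmetricAlgebra.isSymmetricAlgebra_ι

end Final

end Groth.Agent.H5.Sep
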