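import Mathlib
import Groth.Prelude.Def_Smoothing
import Groth.Agent.Lib.Helper5.Sep.C
import Groth.Agent.Lib.Helper5.Sep.G1
import Groth.Agent.Lib.Helper5.Des.S31F

set_option autoImplicit false
universe u
open TensorProduct

namespace Groth.Agent.H5.Sep

open Groth.Agent.H5.SymSmooth Groth.Agent.H5.SymLoc

/-- Generic construction (Stacks 07CK + 07CE(2)): over a Noetherian base, every finitely presented
algebra `B` is a retract of a finitely presented algebra `C` such that for `b ∈ B` with `B_b` smooth,
large powers of `b` are strictly standard in `C` and `b` lies in the singular ideal of `C`. -/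
theorem exists_sym_construction {R B : Type u} [CommRing R] [IsNoetherianRing R] [CommRing B]
    [Algebra R B] [Algebra.FinitePresentation R B] :
    ∃ (Cs : Type u) (_ : CommRing Cs) (_ : Algebra R Cs) (_ : Algebra.FinitePresentation R Cs)
      (ι : B →ₐ[R] Cs) (ρ : Cs →ₐ[R] B), (∀ b, ρ (ι b) = b) ∧
      ∀ b : B, Algebra.Smooth R (Localization.Away b) →
        (∃ e₀ : ℕ, ∀ m : ℕ, e₀ ≤ m → Smoothing.IsStrictlyStandard R Cs (ι b ^ m)) ∧
        ι b ∈ Smoothing.singularIdeal R Cs := by
  classical
  obtain ⟨ι', _, x, hx⟩ := exists_family_span R B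
  haveI : Module.Finite B (LinearMap.ker (piMap (R := R) x)) :=
    ⟨(Submodule.fg_top _).mpr (Module.FinitePresentation.fg_ker
      (piMap (R := R) x) (piMap_surjective x hx))⟩
  haveI ftBC : Algebra.FiniteType B (SymmetricAlgebra B (LinearMap.ker (piMap (R := R) x))) :=
    finiteType_of_isSymmetricAlgebra SymmetricAlgebra.isSymmetricAlgebra_ι
  haveI ftRC : Algebra.FiniteType R (SymmetricAlgebra B (LinearMap.ker (piMap (R := R) x))) :=
    Algebra.FiniteType.trans (S := B) inferInstance ftBC
  haveI fpRC : Algebra.FinitePresentation R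
      (SymmetricAlgebra B (LinearMap.ker (piMap (R := R) x))) :=
    Algebra.FinitePresentation.of_finiteType.mp ftRC
  refine ⟨SymmetricAlgebra B (LinearMap.ker (piMap (R := R) x)), inferInstance, inferInstance,
    fpRC, IsScalarTower.toAlgHom R B _,
    (SymmetricAlgebra.algebraMapInv : SymmetricAlgebra B (LinearMap.ker (piMap (R := R) x))
      →ₐ[B] B).restrictScalars R, ?_, ?_⟩
  · intro b
    show SymmetricAlgebra.algebraMapInv (algebraMap B _ b) = b
    rw [AlgHom.commutes, Algebra.algebraMap_self_apply]
  · intro b hb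
    haveI := hb
    obtain ⟨hsmC, ⟨eΩ⟩⟩ := final_step' (R := R) x hx b
    haveI := hsmC
    show (∃ e₀ : ℕ, ∀ m : ℕ, e₀ ≤ m → Smoothing.IsStrictlyStandard R
        (SymmetricAlgebra B (LinearMap.ker (piMap (R := R) x)))
        (algebraMap B (SymmetricAlgebra B (LinearMap.ker (piMap (R := R) x))) b ^ m)) ∧
      algebraMap B (SymmetricAlgebra B (LinearMap.ker (piMap (R := R) x))) b ∈
        Smoothing.singularIdeal R (SymmetricAlgebra B (LinearMap.ker (piMap (R := R) x)))
    refine ⟨?_, ?_⟩
    · exact Groth.Agent.H5.Des.S31.main2031 _ 0 (Fintype.card ι')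
        ((LinearEquiv.prodUnique).trans
          (eΩ.trans (LinearEquiv.funCongrLeft _ _ (Fintype.equivFin ι').symm)))
    · exact mem_singularIdeal_of_smooth_away _

end Groth.Agent.H5.Sep
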