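import Mathlib
import Groth.Agent.Lib.Helper8.Par09.A

/-! S2109 with the exponent `N = n` exposed (copy of helper8's `main2109` proof). -/

set_option autoImplicit false
set_option linter.style.haveILetI false
set_option linter.unusedSectionVars false
set_option linter.unusedVariables false
universe u

namespace Groth.Agent.H5.Sep

open Groth.Agent.H8.Par09

section Main

variable {Λ : Type u} [CommRing Λ] [IsNoetherianRing Λ] (q : Ideal Λ) [q.IsPrime]

theorem main2109' (I : Ideal Λ) (hIq : I ≤ q) (n e d : ℕ) (hn : 0 < n) (he : 0 < e)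
    (hpow : (q ^ n).map (algebraMap Λ (Localization.AtPrime q)) ≤
      I.map (algebraMap Λ (Localization.AtPrime q)))
    [IsRegularLocalRing (Localization.AtPrime q)]
    (hd : ringKrullDim (Localization.AtPrime q) = d) :
    ∃ (π : Fin d → Λ),
      Ideal.span (Set.range fun i => algebraMap Λ (Localization.AtPrime q) (π i)) =
        q.map (algebraMap Λ (Localization.AtPrime q)) ∧
      (∀ i, π i ^ n ∈ I) ∧
      ∀ i : Fin d, ∀ x : Λ ⧸ Ideal.span
          (Set.range fun j : {j : Fin d // (j : ℕ) < (i : ℕ)} => π j ^ e),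
        Ideal.Quotient.mk _ (π i) ^ 2 * x = 0 → Ideal.Quotient.mk _ (π i) * x = 0 := by
  classical
  have hfin : (IsLocalRing.maximalIdeal (Localization.AtPrime q)).spanFinrank = d := by
    have h1 := IsRegularLocalRing.spanFinrank_maximalIdeal (R := Localization.AtPrime q)
    rw [hd] at h1
    exact_mod_cast h1
  obtain ⟨s, hscard, hsspan⟩ := Submodule.FG.exists_span_finset_card_eq_spanFinrank
    (IsNoetherian.noetherian (IsLocalRing.maximalIdeal (Localization.AtPrime q)))
  have hsd : s.card = d := hscard.trans hfin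
  obtain ⟨eqv⟩ : Nonempty (s ≃ Fin d) := ⟨s.equivFinOfCardEq hsd⟩
  obtain ⟨g, hgdef⟩ : ∃ g : Fin d → Localization.AtPrime q, ∀ i, g i = (eqv.symm i : _) :=
    ⟨_, fun _ => rfl⟩
  have hgrange : Set.range g = (s : Set (Localization.AtPrime q)) := by
    ext y
    constructor
    · rintro ⟨i, rfl⟩
      rw [hgdef]
      exact (eqv.symm i).2
    · intro hy
      exact ⟨eqv ⟨y, hy⟩, by rw [hgdef]; simp⟩
  have hgspan : Ideal.span (Set.range g) = IsLocalRing.maximalIdeal (Localization.AtPrime q) := by
    rw [hgrange]; exact hsspan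
  have hgmem : ∀ i, g i ∈ IsLocalRing.maximalIdeal (Localization.AtPrime q) := fun i => by
    rw [← hgspan]; exact Ideal.subset_span ⟨i, rfl⟩
  choose b hb using fun i => IsLocalization.surj q.primeCompl (g i)
  have haq : ∀ i, (b i).1 ∈ q := by
    intro i
    rw [← IsLocalization.AtPrime.to_map_mem_maximal_iff (Localization.AtPrime q) q (b i).1, ← hb i]
    exact Ideal.mul_mem_right _ _ (hgmem i)
  have haspan : Ideal.span (Set.range fun i => algebraMap Λ (Localization.AtPrime q) (b i).1) =
      IsLocalRing.maximalIdeal (Localization.AtPrime q) := by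
    rw [← hgspan]
    apply span_range_eq_of_unit_mul _ _
      (fun i => algebraMap Λ (Localization.AtPrime q) ((b i).2 : Λ))
    · intro i; exact IsLocalization.map_units (Localization.AtPrime q) (b i).2
    · intro i
      rw [← hb i, mul_comm]
  obtain ⟨s₀, hs₀q, hs₀⟩ := exists_uniform q (q ^ n) I (fun x hx =>
    exists_mul_mem_of_map_mem q I x (hpow (Ideal.mem_map_of_mem _ hx)))
  have ha'span : Ideal.span (Set.range fun i =>
      algebraMap Λ (Localization.AtPrime q) (s₀ * (b i).1)) =
      IsLocalRing.maximalIdeal (Localization.AtPrime q) := by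
    rw [← haspan]
    apply span_range_eq_of_unit_mul _ _ (fun _ => algebraMap Λ (Localization.AtPrime q) s₀)
    · intro i
      exact IsLocalization.map_units (Localization.AtPrime q) (⟨s₀, hs₀q⟩ : q.primeCompl)
    · intro i; exact map_mul _ s₀ (b i).1
  obtain ⟨π, hπu, hπ3⟩ := exists_params q hd e he (fun i => s₀ * (b i).1) ha'span d le_rfl
  choose u hu hπa using hπu
  refine ⟨π, ?_, ?_, ?_⟩
  · rw [Localization.AtPrime.map_eq_maximalIdeal, ← ha'span]
    apply span_range_eq_of_unit_mul _ _ (fun i => algebraMap Λ (Localization.AtPrime q) (u i))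
    · intro i
      exact IsLocalization.map_units (Localization.AtPrime q) (⟨u i, hu i⟩ : q.primeCompl)
    · intro i
      rw [hπa i, map_mul]
  · intro i
    obtain ⟨m, rfl⟩ : ∃ m, n = m + 1 := ⟨n - 1, by omega⟩
    have h1 : (b i).1 ^ (m + 1) ∈ q ^ (m + 1) := Ideal.pow_mem_pow (haq i) _
    have h2 := hs₀ _ h1
    have : π i ^ (m + 1) = u i ^ (m + 1) * s₀ ^ m * (s₀ * (b i).1 ^ (m + 1)) := by
      rw [hπa i]; ring
    rw [this]
    exact Ideal.mul_mem_left _ _ h2
  · intro i x
    obtain ⟨x, rfl⟩ := Ideal.Quotient.mk_surjective x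
    intro h
    rw [← map_pow, ← map_mul, Ideal.Quotient.eq_zero_iff_mem] at h
    rw [← map_mul, Ideal.Quotient.eq_zero_iff_mem]
    have hKK : Ideal.span (Set.range fun j : {j : Fin d // (j : ℕ) < (i : ℕ)} => π j ^ e) =
        KK e π i := by
      unfold KK
      congr 1
      ext y
      constructor
      · rintro ⟨⟨l, hl⟩, rfl⟩
        exact ⟨l, Fin.lt_def.mpr hl, rfl⟩
      · rintro ⟨l, hl, rfl⟩
        exact ⟨⟨l, Fin.lt_def.mp hl⟩, rfl⟩
    rw [hKK] at h ⊢
    exact hπ3 i i.isLt x h

end Main

end Groth.Agent.H5.Sep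

namespace Groth.Agent.H5.Sep

/-- If `q` is minimal over `I` in a Noetherian ring, then a power of `q Λ_q` lies in `I Λ_q`. -/
theorem exists_pow_map_le {Λ : Type u} [CommRing Λ] [IsNoetherianRing Λ] (I q : Ideal Λ)
    [q.IsPrime] (hmin : q ∈ I.minimalPrimes) :
    ∃ n : ℕ, 0 < n ∧ (q ^ n).map (algebraMap Λ (Localization.AtPrime q)) ≤
      I.map (algebraMap Λ (Localization.AtPrime q)) := by
  classical
  have hIq : I ≤ q := hmin.1.2
  set S := Localization.AtPrime q
  set I' := I.map (algebraMap Λ S) with hI'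
  have hI'le : I' ≤ IsLocalRing.maximalIdeal S := by
    rw [← Localization.AtPrime.map_eq_maximalIdeal]
    exact Ideal.map_mono hIq
  have hrad : I'.radical = IsLocalRing.maximalIdeal S := by
    apply le_antisymm
    · exact (Ideal.IsPrime.radical_le_iff inferInstance).mpr hI'le
    · rw [Ideal.radical_eq_sInf]
      refine le_sInf ?_
      rintro P' ⟨hIP', hP'⟩
      haveI := hP'
      have hPq : P'.comap (algebraMap Λ S) ≤ q := by
        have h1 : P' ≤ IsLocalRing.maximalIdeal S := IsLocalRing.le_maximalIdeal hP'.ne_top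
        have h2 := Ideal.comap_mono (f := algebraMap Λ S) h1
        have h3 : Ideal.comap (algebraMap Λ S) (IsLocalRing.maximalIdeal S) = q :=
          IsLocalization.AtPrime.comap_maximalIdeal S q
        rwa [h3] at h2
      have hIP : I ≤ P'.comap (algebraMap Λ S) :=
        Ideal.le_comap_of_map_le hIP'
      have hqP : q ≤ P'.comap (algebraMap Λ S) :=
        hmin.2 ⟨Ideal.comap_isPrime _ _, hIP⟩ hPq
      rw [← Localization.AtPrime.map_eq_maximalIdeal]
      exact Ideal.map_le_of_le_comap hqP
  obtain ⟨n, hn⟩ := Ideal.exists_radical_pow_le_of_fg I'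
    (IsNoetherian.noetherian I'.radical)
  refine ⟨n + 1, Nat.succ_pos _, ?_⟩
  rw [Ideal.map_pow, Localization.AtPrime.map_eq_maximalIdeal, ← hrad]
  exact (Ideal.pow_le_pow_right (Nat.le_succ n)).trans hn

end Groth.Agent.H5.Sep
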