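import Mathlib
import Groth.Prelude.Def_Smoothing
import Groth.Agent.Lib.Helper5.Sep.A
import Groth.Agent.S2034

set_option autoImplicit false
universe u
open TensorProduct

namespace Groth.Agent.H5.Sep

/-- If the base `R'` is "local at `𝔮'`" (every element not mapping into `𝔮'` is a unit), the
localization `Λq` of `Λ'` at `𝔮'` is zero-dimensional and ind-smooth over `R'`, then every local
problem `R' → C' → Λ' ⊇ 𝔮'` can be resolved. -/
theorem resolvable_of_indSmooth_loc {R' C' Λ' Λq : Type u} [CommRing R'] [IsNoetherianRing R']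
    [CommRing C'] [Algebra R' C'] [Algebra.FinitePresentation R' C'] [CommRing Λ'] [Algebra R' Λ']
    (φ' : C' →ₐ[R'] Λ') (𝔮' : Ideal Λ') [𝔮'.IsPrime]
    (hunits : ∀ r : R', algebraMap R' Λ' r ∉ 𝔮' → IsUnit r)
    [CommRing Λq] [Algebra Λ' Λq] [IsLocalization.AtPrime Λq 𝔮'] [Algebra R' Λq]
    [IsScalarTower R' Λ' Λq]
    (hdim : ringKrullDim Λq = 0) (hind : Smoothing.IndSmooth R' Λq) :
    Smoothing.Resolvable R' φ' 𝔮' := by
  classical
  by_cases hle : Smoothing.singRad R' φ' ≤ 𝔮'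
  · -- `𝔮'` is a minimal prime of `Λ'`
    have hht : 𝔮'.height = 0 := by
      have h1 := IsLocalization.AtPrime.ringKrullDim_eq_height 𝔮' Λq
      rw [hdim] at h1
      exact_mod_cast h1.symm
    have hminΛ : 𝔮' ∈ minimalPrimes Λ' := Ideal.height_eq_zero_iff.mp hht
    have hmin : 𝔮' ∈ (Smoothing.singRad R' φ').minimalPrimes := by
      refine ⟨⟨inferInstance, hle⟩, fun P hP hPle => ?_⟩
      exact hminΛ.2 ⟨hP.1, bot_le⟩ hPle
    haveI : IsLocalization.AtPrime R' (𝔮'.comap (algebraMap R' Λ')) := by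
      refine IsLocalization.of_le_isUnit ?_
      intro r hr
      exact hunits r hr
    haveI : IsLocalRing Λq := IsLocalization.AtPrime.isLocalRing Λq 𝔮'
    have hne : 𝔮'.map (algebraMap Λ' Λq) ≠ ⊤ := by
      rw [IsLocalization.AtPrime.map_eq_maximalIdeal 𝔮' Λq]
      exact Ideal.IsPrime.ne_top'
    refine Groth.Agent.S2034.result (Rₚ := R') (Λq := Λq) φ' 𝔮' hmin hdim ?_
    obtain ⟨B, _, _, hBsm, g, h, hgh⟩ := hind (R' ⊗[R'] C') inferInstance
      (Algebra.TensorProduct.lift (Algebra.ofId R' Λq)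
        ((IsScalarTower.toAlgHom R' Λ' Λq).comp φ') (fun _ _ => Commute.all _ _))
    haveI := hBsm
    exact resolvable_of_smooth _ _ hne g h hgh
  · exact ⟨C', inferInstance, inferInstance, inferInstance, AlgHom.id R' C', φ', rfl, le_rfl, hle⟩

end Groth.Agent.H5.Sep
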