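import Mathlib
import Groth.Agent.Lib.Helper5.QFFlat.A
import Groth.Agent.Lib.Helper5.FSm.FlatReg

set_option autoImplicit false
universe u
open MvPolynomial

namespace Groth.Agent.H5.Sep

/-- If `x_1, …, x_d` map to a regular system of parameters of the regular local ring `Λ_𝔮` of
dimension `d`, then `Λ_𝔮` is flat over `k[x_1, …, x_d]`. -/
theorem flat_localization {k Λ : Type u} [Field k] [CommRing Λ] {d : ℕ}
    [Algebra (MvPolynomial (Fin d) k) Λ] (𝔮 : Ideal Λ) [𝔮.IsPrime]
    [IsRegularLocalRing (Localization.AtPrime 𝔮)]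
    (hd : ringKrullDim (Localization.AtPrime 𝔮) = d)
    (hspan : Ideal.span (Set.range fun i : Fin d => algebraMap Λ (Localization.AtPrime 𝔮)
      (algebraMap (MvPolynomial (Fin d) k) Λ (X i))) =
        𝔮.map (algebraMap Λ (Localization.AtPrime 𝔮))) :
    Module.Flat (MvPolynomial (Fin d) k) (Localization.AtPrime 𝔮) := by
  classical
  obtain ⟨𝔭, h𝔭⟩ : ∃ 𝔭 : Ideal (MvPolynomial (Fin d) k),
      𝔭 = 𝔮.comap (algebraMap (MvPolynomial (Fin d) k) Λ) := ⟨_, rfl⟩
  haveI : 𝔭.IsPrime := by rw [h𝔭]; exact Ideal.comap_isPrime _ _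
  letI algTS : Algebra (Localization.AtPrime 𝔭) (Localization.AtPrime 𝔮) :=
    (Localization.localRingHom 𝔭 𝔮 (algebraMap (MvPolynomial (Fin d) k) Λ) h𝔭).toAlgebra
  haveI tower : IsScalarTower (MvPolynomial (Fin d) k) (Localization.AtPrime 𝔭)
      (Localization.AtPrime 𝔮) := by
    refine IsScalarTower.of_algebraMap_eq fun x => ?_
    show _ = Localization.localRingHom 𝔭 𝔮 (algebraMap (MvPolynomial (Fin d) k) Λ) h𝔭
      (algebraMap (MvPolynomial (Fin d) k) _ x)
    rw [Localization.localRingHom_to_map, ← IsScalarTower.algebraMap_apply]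
  haveI : IsLocalHom (algebraMap (Localization.AtPrime 𝔭) (Localization.AtPrime 𝔮)) :=
    Localization.isLocalHom_localRingHom 𝔭 𝔮 _ h𝔭
  haveI : IsRegularLocalRing (Localization.AtPrime 𝔭) :=
    Groth.Agent.H5.QFFlat.isRegularLocalRing_localization_mvPolynomial k d 𝔭
  -- the images of the variables lie in `𝔮`
  have hX𝔮 : ∀ i : Fin d, algebraMap (MvPolynomial (Fin d) k) Λ (X i) ∈ 𝔮 := by
    intro i
    rw [← IsLocalization.AtPrime.to_map_mem_maximal_iff (Localization.AtPrime 𝔮) 𝔮,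
      ← Localization.AtPrime.map_eq_maximalIdeal, ← hspan]
    exact Ideal.subset_span ⟨i, rfl⟩
  have hmap : (IsLocalRing.maximalIdeal (Localization.AtPrime 𝔭)).map
      (algebraMap (Localization.AtPrime 𝔭) (Localization.AtPrime 𝔮)) =
      𝔭.map (algebraMap (MvPolynomial (Fin d) k) (Localization.AtPrime 𝔮)) := by
    rw [← Localization.AtPrime.map_eq_maximalIdeal, Ideal.map_map,
      ← IsScalarTower.algebraMap_eq]
  have hy : IsLocalRing.maximalIdeal (Localization.AtPrime 𝔮) =
      (IsLocalRing.maximalIdeal (Localization.AtPrime 𝔭)).map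
        (algebraMap (Localization.AtPrime 𝔭) (Localization.AtPrime 𝔮)) ⊔
        Ideal.span (Set.range (Fin.elim0 : Fin 0 → Localization.AtPrime 𝔮)) := by
    have h0 : Ideal.span (Set.range (Fin.elim0 : Fin 0 → Localization.AtPrime 𝔮)) = ⊥ := by
      rw [Set.range_eq_empty, Ideal.span_empty]
    rw [h0, sup_bot_eq, hmap]
    apply le_antisymm
    · rw [← Localization.AtPrime.map_eq_maximalIdeal, ← hspan, Ideal.span_le]
      rintro _ ⟨i, rfl⟩
      show algebraMap Λ (Localization.AtPrime 𝔮) (algebraMap (MvPolynomial (Fin d) k) Λ (X i)) ∈ _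
      rw [← IsScalarTower.algebraMap_apply]
      exact Ideal.mem_map_of_mem _ (by rw [h𝔭]; exact hX𝔮 i)
    · rw [Ideal.map_le_iff_le_comap]
      intro r hr
      rw [h𝔭] at hr
      rw [Ideal.mem_comap, IsScalarTower.algebraMap_apply (MvPolynomial (Fin d) k) Λ,
        IsLocalization.AtPrime.to_map_mem_maximal_iff (Localization.AtPrime 𝔮) 𝔮]
      exact hr
  have hdim : ringKrullDim (Localization.AtPrime 𝔭) + ((0 : ℕ) : WithBot ℕ∞) ≤
      ringKrullDim (Localization.AtPrime 𝔮) := by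
    rw [hd, IsLocalization.AtPrime.ringKrullDim_eq_height 𝔭 (Localization.AtPrime 𝔭)]
    have h1 : (𝔭.height : WithBot ℕ∞) ≤ ringKrullDim (MvPolynomial (Fin d) k) :=
      Ideal.height_le_ringKrullDim_of_isPrime
    have h2 : ringKrullDim (MvPolynomial (Fin d) k) = (d : WithBot ℕ∞) := by
      rw [MvPolynomial.ringKrullDim_of_isNoetherianRing, ringKrullDim_eq_zero_of_field, zero_add,
        Nat.card_eq_fintype_card, Fintype.card_fin]
    rw [h2] at h1
    simpa using h1
  have hflatTS : Module.Flat (Localization.AtPrime 𝔭) (Localization.AtPrime 𝔮) :=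
    (Groth.Agent.H5.FSm.flat_of_regular_of_dim (R := Localization.AtPrime 𝔭)
      (S := Localization.AtPrime 𝔮) Fin.elim0 hy hdim).1
  exact Module.Flat.trans (MvPolynomial (Fin d) k) (Localization.AtPrime 𝔭)
    (Localization.AtPrime 𝔮)

end Groth.Agent.H5.Sep
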