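import Mathlib
import Groth.Prelude.Def_Smoothing
import Groth.Agent.Lib.Helper5.Sep.A
import Groth.Agent.Lib.Helper5.Sep.F1
import Groth.Agent.Lib.Helper8.SmLift.IndSmoothNil

set_option autoImplicit false
universe u
open MvPolynomial

namespace Groth.Agent.H5.Sep

theorem sub_C_constantCoeff_mem {k : Type*} [CommRing k] {σ : Type*} (p : MvPolynomial σ k) :
    p - C (constantCoeff p) ∈ Ideal.span (Set.range (X : σ → MvPolynomial σ k)) := by
  induction p using MvPolynomial.induction_on with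
  | C a => simp
  | add p q hp hq =>
    have : p + q - C (constantCoeff (p + q)) =
        (p - C (constantCoeff p)) + (q - C (constantCoeff q)) := by
      rw [map_add, map_add]; ring
    rw [this]; exact Ideal.add_mem _ hp hq
  | mul_X p i _ =>
    have : constantCoeff (p * X i) = 0 := by simp
    rw [this, map_zero, sub_zero]
    exact Ideal.mul_mem_left _ _ (Ideal.subset_span ⟨i, rfl⟩)

/-- `k[x]/(x) ≃ k` -/
noncomputable def quotVarsEquiv (k : Type*) [Field k] (σ : Type*) :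
    (MvPolynomial σ k ⧸ Ideal.span (Set.range (X : σ → MvPolynomial σ k))) ≃+* k :=
  RingEquiv.ofBijective
    (Ideal.Quotient.lift _ (constantCoeff : MvPolynomial σ k →+* k) (by
      intro a ha
      have : Ideal.span (Set.range (X : σ → MvPolynomial σ k)) ≤
          RingHom.ker (constantCoeff : MvPolynomial σ k →+* k) := by
        rw [Ideal.span_le]
        rintro _ ⟨i, rfl⟩
        simp
      exact this ha))
    ⟨by
      rw [injective_iff_map_eq_zero]
      intro x hx
      obtain ⟨p, rfl⟩ := Ideal.Quotient.mk_surjective x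
      rw [Ideal.Quotient.lift_mk] at hx
      have := sub_C_constantCoeff_mem p
      rw [hx, map_zero, sub_zero] at this
      exact Ideal.Quotient.eq_zero_iff_mem.mpr this,
    fun c => ⟨Ideal.Quotient.mk _ (C c), by simp⟩⟩

theorem quotVarsEquiv_mk (k : Type*) [Field k] (σ : Type*) (p : MvPolynomial σ k) :
    quotVarsEquiv k σ (Ideal.Quotient.mk _ p) = constantCoeff p := rfl

theorem indSmooth_reduced {k Λ : Type u} [Field k] [CommRing Λ] [Algebra k Λ] {d : ℕ}
    [Algebra (MvPolynomial (Fin d) k) Λ] [IsScalarTower k (MvPolynomial (Fin d) k) Λ]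
    (𝔮 : Ideal Λ) [𝔮.IsPrime] [IsRegularLocalRing (Localization.AtPrime 𝔮)]
    [Algebra.IsGeometricallyReduced k 𝔮.ResidueField]
    (hd : ringKrullDim (Localization.AtPrime 𝔮) = d)
    (hspan : Ideal.span (Set.range fun i : Fin d => algebraMap Λ (Localization.AtPrime 𝔮)
      (algebraMap (MvPolynomial (Fin d) k) Λ (X i))) =
        𝔮.map (algebraMap Λ (Localization.AtPrime 𝔮)))
    (K : Ideal (MvPolynomial (Fin d) k)) (e : ℕ) (he : 0 < e)
    (hK : K = Ideal.span (Set.range fun i : Fin d => (X i : MvPolynomial (Fin d) k) ^ e)) :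
    Smoothing.IndSmooth (MvPolynomial (Fin d) k ⧸ K)
      (Localization.AtPrime 𝔮 ⧸
        K.map (algebraMap (MvPolynomial (Fin d) k) (Localization.AtPrime 𝔮))) := by
  classical
  obtain ⟨𝔭₀, h𝔭₀⟩ : ∃ 𝔭₀ : Ideal (MvPolynomial (Fin d) k),
      𝔭₀ = Ideal.span (Set.range (X : Fin d → MvPolynomial (Fin d) k)) := ⟨_, rfl⟩
  have hK𝔭₀ : K ≤ 𝔭₀ := by
    rw [hK, Ideal.span_le]
    rintro _ ⟨i, rfl⟩
    obtain ⟨e', rfl⟩ : ∃ e', e = e' + 1 := ⟨e - 1, by omega⟩
    show (X i : MvPolynomial (Fin d) k) ^ (e' + 1) ∈ 𝔭₀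
    rw [pow_succ, h𝔭₀]
    exact Ideal.mul_mem_left _ _ (Ideal.subset_span ⟨i, rfl⟩)
  haveI : Module.Flat (MvPolynomial (Fin d) k) (Localization.AtPrime 𝔮) :=
    flat_localization 𝔮 hd hspan
  haveI : Module.Flat (MvPolynomial (Fin d) k ⧸ K) (Localization.AtPrime 𝔮 ⧸
      K.map (algebraMap (MvPolynomial (Fin d) k) (Localization.AtPrime 𝔮))) :=
    Groth.Agent.H8.SmLift.flat_quotient K
  -- nilpotency
  have hnil : IsNilpotent (𝔭₀.map (Ideal.Quotient.mk K)) := by
    rw [Ideal.FG.isNilpotent_iff_le_nilradical (IsNoetherian.noetherian _), h𝔭₀, Ideal.map_span,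
      Ideal.span_le]
    rintro _ ⟨_, ⟨i, rfl⟩, rfl⟩
    show IsNilpotent (Ideal.Quotient.mk K (X i))
    refine ⟨e, ?_⟩
    rw [← map_pow, Ideal.Quotient.eq_zero_iff_mem, hK]
    exact Ideal.subset_span ⟨i, rfl⟩
  -- the maximal ideal of `Λ_𝔮` is generated by the variables
  have hmax : 𝔭₀.map (algebraMap (MvPolynomial (Fin d) k) (Localization.AtPrime 𝔮)) =
      IsLocalRing.maximalIdeal (Localization.AtPrime 𝔮) := by
    rw [← Localization.AtPrime.map_eq_maximalIdeal, ← hspan, h𝔭₀, Ideal.map_span]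
    congr 1
    ext y
    constructor
    · rintro ⟨_, ⟨i, rfl⟩, rfl⟩
      exact ⟨i, (IsScalarTower.algebraMap_apply _ _ _ _).symm⟩
    · rintro ⟨i, rfl⟩
      exact ⟨_, ⟨i, rfl⟩, IsScalarTower.algebraMap_apply _ _ _ _⟩
  haveI : IsScalarTower k (MvPolynomial (Fin d) k) (Localization.AtPrime 𝔮) := by
    refine IsScalarTower.of_algebraMap_eq fun c => ?_
    rw [IsScalarTower.algebraMap_apply k Λ (Localization.AtPrime 𝔮),
      IsScalarTower.algebraMap_apply k (MvPolynomial (Fin d) k) Λ,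
      ← IsScalarTower.algebraMap_apply (MvPolynomial (Fin d) k) Λ (Localization.AtPrime 𝔮)]
  have h₀ : Smoothing.IndSmooth (MvPolynomial (Fin d) k ⧸ 𝔭₀)
      (Localization.AtPrime 𝔮 ⧸
        𝔭₀.map (algebraMap (MvPolynomial (Fin d) k) (Localization.AtPrime 𝔮))) := by
    subst h𝔭₀
    let l : (Localization.AtPrime 𝔮 ⧸ (Ideal.span (Set.range (X : Fin d → MvPolynomial (Fin d) k))).map
        (algebraMap (MvPolynomial (Fin d) k) (Localization.AtPrime 𝔮))) ≃+* 𝔮.ResidueField :=
      Ideal.quotEquivOfEq hmax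
    refine Groth.Agent.H8.SmLift.indSmooth_of_ringEquiv' (quotVarsEquiv k (Fin d)) l ?_
      (indSmooth_of_isGeometricallyReduced k 𝔮.ResidueField)
    intro r'
    obtain ⟨r, rfl⟩ := Ideal.Quotient.mk_surjective r'
    rw [quotVarsEquiv_mk]
    show IsLocalRing.residue (Localization.AtPrime 𝔮)
      (algebraMap (MvPolynomial (Fin d) k) (Localization.AtPrime 𝔮) r) = _
    rw [IsScalarTower.algebraMap_apply k (Localization.AtPrime 𝔮) 𝔮.ResidueField,
      IsScalarTower.algebraMap_apply k (MvPolynomial (Fin d) k) (Localization.AtPrime 𝔮)]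
    show _ = IsLocalRing.residue (Localization.AtPrime 𝔮) _
    rw [← sub_eq_zero, ← map_sub, ← map_sub, IsLocalRing.residue_eq_zero_iff, ← hmax]
    exact Ideal.mem_map_of_mem _ (sub_C_constantCoeff_mem r)
  exact Groth.Agent.H8.SmLift.indSmooth_of_nilpotent _ hnil
    (Groth.Agent.H8.SmLift.indSmooth_doubleQuot K 𝔭₀ hK𝔭₀ h₀)

end Groth.Agent.H5.Sep
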