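import Mathlib
import Groth.Prelude.Def_Smoothing
import Groth.Agent.Lib.Helper5.Sep.F0
import Groth.Agent.Lib.Helper5.Sep.F2

set_option autoImplicit false
universe u
open MvPolynomial

namespace Groth.Agent.H5.Sep

set_option maxHeartbeats 1000000 in
theorem resolvable_reduced {k Λ : Type u} [Field k] [CommRing Λ] [Algebra k Λ] {d : ℕ}
    [Algebra (MvPolynomial (Fin d) k) Λ] [IsScalarTower k (MvPolynomial (Fin d) k) Λ]
    (𝔮 : Ideal Λ) [𝔮.IsPrime] [IsRegularLocalRing (Localization.AtPrime 𝔮)]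
    [Algebra.IsGeometricallyReduced k 𝔮.ResidueField]
    (hd : ringKrullDim (Localization.AtPrime 𝔮) = d)
    (hspan : Ideal.span (Set.range fun i : Fin d => algebraMap Λ (Localization.AtPrime 𝔮)
      (algebraMap (MvPolynomial (Fin d) k) Λ (X i))) =
        𝔮.map (algebraMap Λ (Localization.AtPrime 𝔮)))
    (K : Ideal (MvPolynomial (Fin d) k)) (e : ℕ) (he : 0 < e)
    (hK : K = Ideal.span (Set.range fun i : Fin d => (X i : MvPolynomial (Fin d) k) ^ e))
    {C' : Type u} [CommRing C'] [Algebra (MvPolynomial (Fin d) k ⧸ K) C']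
    [Algebra.FinitePresentation (MvPolynomial (Fin d) k ⧸ K) C']
    (φ' : C' →ₐ[MvPolynomial (Fin d) k ⧸ K] (Λ ⧸ K.map (algebraMap (MvPolynomial (Fin d) k) Λ))) :
    Smoothing.Resolvable (MvPolynomial (Fin d) k ⧸ K) φ'
      (𝔮.map (Ideal.Quotient.mk (K.map (algebraMap (MvPolynomial (Fin d) k) Λ)))) := by
  classical
  -- the images of the variables lie in `𝔮`
  have hX𝔮 : ∀ i : Fin d, algebraMap (MvPolynomial (Fin d) k) Λ (X i) ∈ 𝔮 := by
    intro i
    rw [← IsLocalization.AtPrime.to_map_mem_maximal_iff (Localization.AtPrime 𝔮) 𝔮,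
      ← Localization.AtPrime.map_eq_maximalIdeal, ← hspan]
    exact Ideal.subset_span ⟨i, rfl⟩
  have hvars𝔮 : ∀ m ∈ Ideal.span (Set.range (X : Fin d → MvPolynomial (Fin d) k)),
      algebraMap (MvPolynomial (Fin d) k) Λ m ∈ 𝔮 := by
    intro m hm
    have : Ideal.span (Set.range (X : Fin d → MvPolynomial (Fin d) k)) ≤
        𝔮.comap (algebraMap (MvPolynomial (Fin d) k) Λ) := by
      rw [Ideal.span_le]
      rintro _ ⟨i, rfl⟩
      exact hX𝔮 i
    exact this hm
  have hKΛ𝔮 : K.map (algebraMap (MvPolynomial (Fin d) k) Λ) ≤ 𝔮 := by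
    rw [Ideal.map_le_iff_le_comap, hK, Ideal.span_le]
    rintro _ ⟨i, rfl⟩
    show algebraMap (MvPolynomial (Fin d) k) Λ (X i ^ e) ∈ 𝔮
    rw [map_pow]
    exact Ideal.pow_mem_of_mem _ (hX𝔮 i) _ he
  have hmk𝔮 : ∀ y : Λ, Ideal.Quotient.mk (K.map (algebraMap (MvPolynomial (Fin d) k) Λ)) y ∈
      𝔮.map (Ideal.Quotient.mk (K.map (algebraMap (MvPolynomial (Fin d) k) Λ))) ↔ y ∈ 𝔮 := by
    intro y
    rw [Ideal.mem_map_iff_of_surjective _ Ideal.Quotient.mk_surjective]
    constructor
    · rintro ⟨z, hz, hzy⟩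
      have : z - y ∈ K.map (algebraMap (MvPolynomial (Fin d) k) Λ) := Ideal.Quotient.eq.mp hzy
      have h2 := 𝔮.sub_mem hz (hKΛ𝔮 this)
      simpa using h2
    · intro hy
      exact ⟨y, hy, rfl⟩
  haveI hprime : (𝔮.map (Ideal.Quotient.mk
      (K.map (algebraMap (MvPolynomial (Fin d) k) Λ)))).IsPrime := by
    refine Ideal.map_isPrime_of_surjective Ideal.Quotient.mk_surjective ?_
    rw [Ideal.mk_ker]; exact hKΛ𝔮
  -- the algebra `Λ/KΛ → Λ_𝔮/KΛ_𝔮`
  have hKmap : (K.map (algebraMap (MvPolynomial (Fin d) k) Λ)).map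
      (algebraMap Λ (Localization.AtPrime 𝔮)) =
      K.map (algebraMap (MvPolynomial (Fin d) k) (Localization.AtPrime 𝔮)) := by
    rw [Ideal.map_map, ← IsScalarTower.algebraMap_eq]
  have hle : K.map (algebraMap (MvPolynomial (Fin d) k) Λ) ≤
      (K.map (algebraMap (MvPolynomial (Fin d) k) (Localization.AtPrime 𝔮))).comap
        (algebraMap Λ (Localization.AtPrime 𝔮)) :=
    Ideal.le_comap_of_map_le (le_of_eq hKmap)
  letI algΛ' : Algebra (Λ ⧸ K.map (algebraMap (MvPolynomial (Fin d) k) Λ))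
      (Localization.AtPrime 𝔮 ⧸
        K.map (algebraMap (MvPolynomial (Fin d) k) (Localization.AtPrime 𝔮))) :=
    (Ideal.quotientMap _ (algebraMap Λ (Localization.AtPrime 𝔮)) hle).toAlgebra
  have halg : ∀ y : Λ, algebraMap (Λ ⧸ K.map (algebraMap (MvPolynomial (Fin d) k) Λ))
      (Localization.AtPrime 𝔮 ⧸
        K.map (algebraMap (MvPolynomial (Fin d) k) (Localization.AtPrime 𝔮)))
      (Ideal.Quotient.mk _ y) = Ideal.Quotient.mk _ (algebraMap Λ (Localization.AtPrime 𝔮) y) :=
    fun y => rfl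
  haveI tower : IsScalarTower (MvPolynomial (Fin d) k ⧸ K)
      (Λ ⧸ K.map (algebraMap (MvPolynomial (Fin d) k) Λ))
      (Localization.AtPrime 𝔮 ⧸
        K.map (algebraMap (MvPolynomial (Fin d) k) (Localization.AtPrime 𝔮))) := by
    refine IsScalarTower.of_algebraMap_eq fun x => ?_
    obtain ⟨r, rfl⟩ := Ideal.Quotient.mk_surjective x
    show Ideal.Quotient.mk _ (algebraMap (MvPolynomial (Fin d) k) (Localization.AtPrime 𝔮) r) =
      algebraMap (Λ ⧸ K.map (algebraMap (MvPolynomial (Fin d) k) Λ)) _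
        (Ideal.Quotient.mk _ (algebraMap (MvPolynomial (Fin d) k) Λ r))
    rw [halg, ← IsScalarTower.algebraMap_apply]
  -- localization
  haveI hloc : IsLocalization.AtPrime (Localization.AtPrime 𝔮 ⧸
      K.map (algebraMap (MvPolynomial (Fin d) k) (Localization.AtPrime 𝔮)))
      (𝔮.map (Ideal.Quotient.mk (K.map (algebraMap (MvPolynomial (Fin d) k) Λ)))) := by
    have h1 := IsLocalization.of_surjective (M := 𝔮.primeCompl) (S := Localization.AtPrime 𝔮)
      (Ideal.Quotient.mk (K.map (algebraMap (MvPolynomial (Fin d) k) Λ)))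
      Ideal.Quotient.mk_surjective
      (Ideal.Quotient.mk (K.map (algebraMap (MvPolynomial (Fin d) k) (Localization.AtPrime 𝔮))))
      Ideal.Quotient.mk_surjective (by ext y; rfl)
      (by rw [Ideal.mk_ker, Ideal.mk_ker, hKmap])
    have h2 : 𝔮.primeCompl.map (Ideal.Quotient.mk
        (K.map (algebraMap (MvPolynomial (Fin d) k) Λ))) =
        (𝔮.map (Ideal.Quotient.mk (K.map (algebraMap (MvPolynomial (Fin d) k) Λ)))).primeCompl := by
      ext x
      obtain ⟨y, rfl⟩ := Ideal.Quotient.mk_surjective x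
      constructor
      · rintro ⟨z, hz, hzy⟩
        intro hmem
        rw [← hzy] at hmem
        exact hz ((hmk𝔮 z).mp hmem)
      · intro hy
        exact ⟨y, fun h => hy ((hmk𝔮 y).mpr h), rfl⟩
    show IsLocalization _ _
    rw [← h2]
    exact h1
  -- units
  have hnilI : ∀ m ∈ Ideal.span (Set.range (X : Fin d → MvPolynomial (Fin d) k)),
      IsNilpotent (Ideal.Quotient.mk K m) := by
    intro m hm
    have : Ideal.span (Set.range (X : Fin d → MvPolynomial (Fin d) k)) ≤
        (nilradical (MvPolynomial (Fin d) k ⧸ K)).comap (Ideal.Quotient.mk K) := by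
      rw [Ideal.span_le]
      rintro _ ⟨i, rfl⟩
      show IsNilpotent (Ideal.Quotient.mk K (X i))
      refine ⟨e, ?_⟩
      rw [← map_pow, Ideal.Quotient.eq_zero_iff_mem, hK]
      exact Ideal.subset_span ⟨i, rfl⟩
    exact this hm
  have hunits : ∀ r' : MvPolynomial (Fin d) k ⧸ K,
      algebraMap (MvPolynomial (Fin d) k ⧸ K) (Λ ⧸ K.map (algebraMap (MvPolynomial (Fin d) k) Λ)) r' ∉
        𝔮.map (Ideal.Quotient.mk (K.map (algebraMap (MvPolynomial (Fin d) k) Λ))) → IsUnit r' := by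
    intro r' hr'
    obtain ⟨r, rfl⟩ := Ideal.Quotient.mk_surjective r'
    have hr : algebraMap (MvPolynomial (Fin d) k) Λ r ∉ 𝔮 := by
      intro h
      exact hr' ((hmk𝔮 _).mpr h)
    have hm := sub_C_constantCoeff_mem r
    have hc : constantCoeff r ≠ 0 := by
      intro h0
      rw [h0, map_zero, sub_zero] at hm
      exact hr (hvars𝔮 r hm)
    have hu : IsUnit (Ideal.Quotient.mk K (C (constantCoeff r))) := by
      refine IsUnit.map _ ?_
      exact (IsUnit.mk0 _ hc).map C
    have hsum : Ideal.Quotient.mk K r =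
        Ideal.Quotient.mk K (C (constantCoeff r)) + Ideal.Quotient.mk K (r - C (constantCoeff r)) := by
      rw [← map_add]; congr 1; ring
    rw [hsum]
    exact (hnilI _ hm).isUnit_add_left_of_commute hu (Commute.all _ _)
  -- dimension zero
  have hmax : (Ideal.span (Set.range (X : Fin d → MvPolynomial (Fin d) k))).map
      (algebraMap (MvPolynomial (Fin d) k) (Localization.AtPrime 𝔮)) =
      IsLocalRing.maximalIdeal (Localization.AtPrime 𝔮) := by
    rw [← Localization.AtPrime.map_eq_maximalIdeal, ← hspan, Ideal.map_span]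
    congr 1
    ext y
    constructor
    · rintro ⟨_, ⟨i, rfl⟩, rfl⟩
      exact ⟨i, (IsScalarTower.algebraMap_apply _ _ _ _).symm⟩
    · rintro ⟨i, rfl⟩
      exact ⟨_, ⟨i, rfl⟩, IsScalarTower.algebraMap_apply _ _ _ _⟩
  have hKSle : K.map (algebraMap (MvPolynomial (Fin d) k) (Localization.AtPrime 𝔮)) ≤
      IsLocalRing.maximalIdeal (Localization.AtPrime 𝔮) := by
    rw [← hKmap, ← Localization.AtPrime.map_eq_maximalIdeal]
    exact Ideal.map_mono hKΛ𝔮
  haveI : Nontrivial (Localization.AtPrime 𝔮 ⧸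
      K.map (algebraMap (MvPolynomial (Fin d) k) (Localization.AtPrime 𝔮))) :=
    Ideal.Quotient.nontrivial_iff.mpr (fun h => (Ideal.IsPrime.ne_top (inferInstance :
      (IsLocalRing.maximalIdeal (Localization.AtPrime 𝔮)).IsPrime)) (top_le_iff.mp (h ▸ hKSle)))
  have hdim : ringKrullDim (Localization.AtPrime 𝔮 ⧸
      K.map (algebraMap (MvPolynomial (Fin d) k) (Localization.AtPrime 𝔮))) = 0 := by
    rw [← ringKrullDimZero_iff_ringKrullDim_eq_zero]
    refine Ring.KrullDimLE.mk₀ fun P hP => ?_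
    haveI := hP
    have hcomap : P.comap (Ideal.Quotient.mk
        (K.map (algebraMap (MvPolynomial (Fin d) k) (Localization.AtPrime 𝔮)))) =
        IsLocalRing.maximalIdeal (Localization.AtPrime 𝔮) := by
      refine (Ideal.IsMaximal.eq_of_le (IsLocalRing.maximalIdeal.isMaximal _)
        (Ideal.IsPrime.ne_top (Ideal.comap_isPrime _ _)) ?_).symm
      rw [← hmax, Ideal.map_span, Ideal.span_le]
      rintro _ ⟨_, ⟨i, rfl⟩, rfl⟩
      show Ideal.Quotient.mk _ (algebraMap (MvPolynomial (Fin d) k) (Localization.AtPrime 𝔮) (X i)) ∈ P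
      refine Ideal.IsPrime.mem_of_pow_mem hP e ?_
      rw [← map_pow, ← map_pow]
      have : algebraMap (MvPolynomial (Fin d) k) (Localization.AtPrime 𝔮) (X i ^ e) ∈
          K.map (algebraMap (MvPolynomial (Fin d) k) (Localization.AtPrime 𝔮)) :=
        Ideal.mem_map_of_mem _ (by rw [hK]; exact Ideal.subset_span ⟨i, rfl⟩)
      rw [Ideal.Quotient.eq_zero_iff_mem.mpr this]
      exact P.zero_mem
    have hPmap : P = (IsLocalRing.maximalIdeal (Localization.AtPrime 𝔮)).map
        (Ideal.Quotient.mk _) := by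
      rw [← hcomap, Ideal.map_comap_of_surjective _ Ideal.Quotient.mk_surjective]
    rcases Ideal.map_eq_top_or_isMaximal_of_surjective (Ideal.Quotient.mk
      (K.map (algebraMap (MvPolynomial (Fin d) k) (Localization.AtPrime 𝔮))))
      Ideal.Quotient.mk_surjective (IsLocalRing.maximalIdeal.isMaximal _) with h | h
    · exact absurd (hPmap.trans h) hP.ne_top
    · rw [hPmap]; exact h
  exact resolvable_of_indSmooth_loc φ' _ hunits hdim
    (indSmooth_reduced 𝔮 hd hspan K e he hK)

end Groth.Agent.H5.Sep
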