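import Mathlib
import Groth.Prelude.Def_Smoothing
import Groth.Agent.Lib.Helper5.Sep.B
import Groth.Agent.Lib.Helper5.Sep.G2a

set_option autoImplicit false
universe u
open TensorProduct MvPolynomial

namespace Groth.Agent.H5.Sep

/-- intermediate generic step: from an `R`-algebra `A'` with elements `xs`, `as'`. -/
theorem exists_construction_aux {R A' : Type u} [CommRing R] [IsNoetherianRing R] [CommRing A']
    [Algebra R A'] [Algebra.FinitePresentation R A'] {d s : ℕ} (xs : Fin d → A')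
    (as' : Fin s → A') (n : ℕ)
    (hsm' : ∀ j, Algebra.Smooth R (Localization.Away (as' j))) :
    ∃ (Cs : Type u) (_ : CommRing Cs) (_ : Algebra R Cs) (_ : Algebra.FinitePresentation R Cs)
      (α : A' →ₐ[R] Cs) (c : ℕ), 0 < c ∧
      (∀ i : Fin d, Smoothing.IsStrictlyStandard R Cs (α (xs i) ^ c)) ∧
      (∀ j, α (as' j) ∈ Smoothing.singularIdeal R Cs) ∧
      ∀ (Λ : Type u) [CommRing Λ] [Algebra R Λ] (ψ' : A' →ₐ[R] Λ) (lam : Fin d → Fin s → Λ)
        (_ : ∀ i, ψ' (xs i) ^ n = ∑ j, lam i j * ψ' (as' j)),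
        ∃ ψ : Cs →ₐ[R] Λ, ∀ a, ψ (α a) = ψ' a := by
  classical
  haveI fpB : Algebra.FinitePresentation R (BB xs as' n) := finitePresentation_BB (R := R) xs as' n
  have smBx : ∀ i, Algebra.Smooth R (Localization.Away (algebraMap A' (BB xs as' n) (xs i))) :=
    fun i => smooth_away_xs (R := R) xs as' n hsm' i
  have smBa : ∀ j, Algebra.Smooth R (Localization.Away (algebraMap A' (BB xs as' n) (as' j))) :=
    fun j => by
      haveI := hsm' j
      exact smooth_away_as (R := R) xs as' n j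
  obtain ⟨Cs, _, _, fpC, ι, ρ, hρι, hC⟩ := exists_sym_construction (R := R) (B := BB xs as' n)
  choose e₀ he₀ using fun i => (hC _ (smBx i)).1
  refine ⟨Cs, inferInstance, inferInstance, fpC, ι.comp (IsScalarTower.toAlgHom R A' (BB xs as' n)),
    (∑ i, e₀ i) + 1, Nat.succ_pos _, ?_, ?_, ?_⟩
  · intro i
    exact he₀ i _ (le_trans (Finset.single_le_sum (fun _ _ => Nat.zero_le _) (Finset.mem_univ i))
      (Nat.le_succ _))
  · intro j
    exact (hC _ (smBa j)).2
  · intro Λ _ _ ψ' lam hlam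
    obtain ⟨ψB, hψB⟩ := exists_lift_BB (R := R) xs as' n ψ' (fun ij => lam ij.1 ij.2) hlam
    refine ⟨ψB.comp ρ, fun a => ?_⟩
    show ψB (ρ (ι (algebraMap A' (BB xs as' n) a))) = _
    rw [hρι, hψB]

/-- The construction of the auxiliary algebra `C` over `R = k[x_1, …, x_d]`. -/
theorem exists_construction {k A : Type u} [Field k] [CommRing A] [Algebra k A]
    [Algebra.FinitePresentation k A] (d s n : ℕ) (as : Fin s → A)
    (hsm : ∀ j, Algebra.Smooth k (Localization.Away (as j))) :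
    ∃ (Cs : Type u) (_ : CommRing Cs) (_ : Algebra (MvPolynomial (Fin d) k) Cs)
      (_ : Algebra.FinitePresentation (MvPolynomial (Fin d) k) Cs) (α : A →+* Cs) (c : ℕ),
      0 < c ∧
      (∀ t : k, α (algebraMap k A t) = algebraMap (MvPolynomial (Fin d) k) Cs (C t)) ∧
      (∀ i : Fin d, Smoothing.IsStrictlyStandard (MvPolynomial (Fin d) k) Cs
        (algebraMap (MvPolynomial (Fin d) k) Cs (X i ^ c))) ∧
      (∀ j, α (as j) ∈ Smoothing.singularIdeal (MvPolynomial (Fin d) k) Cs) ∧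
      ∀ (Λ : Type u) [CommRing Λ] [Algebra (MvPolynomial (Fin d) k) Λ] (φr : A →+* Λ)
        (_ : ∀ t : k, φr (algebraMap k A t) = algebraMap (MvPolynomial (Fin d) k) Λ (C t))
        (lam : Fin d → Fin s → Λ)
        (_ : ∀ i, algebraMap (MvPolynomial (Fin d) k) Λ (X i) ^ n = ∑ j, lam i j * φr (as j)),
        ∃ ψ : Cs →ₐ[MvPolynomial (Fin d) k] Λ, ∀ a, ψ (α a) = φr a := by
  classical
  have hsm' : ∀ j, Algebra.Smooth (MvPolynomial (Fin d) k)
      (Localization.Away ((1 : MvPolynomial (Fin d) k) ⊗ₜ[k] as j)) := fun j => by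
    haveI := hsm j
    exact smooth_away_tmul (R := MvPolynomial (Fin d) k) (as j)
  obtain ⟨Cs, _, _, fpC, α, c, hc, hstd, hsing, huniv⟩ :=
    exists_construction_aux (R := MvPolynomial (Fin d) k) (A' := MvPolynomial (Fin d) k ⊗[k] A)
      (fun i : Fin d => algebraMap (MvPolynomial (Fin d) k) (MvPolynomial (Fin d) k ⊗[k] A) (X i))
      (fun j : Fin s => (1 : MvPolynomial (Fin d) k) ⊗ₜ[k] as j) n hsm'
  refine ⟨Cs, inferInstance, inferInstance, fpC,
    (α : MvPolynomial (Fin d) k ⊗[k] A →+* Cs).comp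
      (Algebra.TensorProduct.includeRight : A →ₐ[k] MvPolynomial (Fin d) k ⊗[k] A).toRingHom,
    c, hc, ?_, ?_, ?_, ?_⟩
  · intro t
    show α ((1 : MvPolynomial (Fin d) k) ⊗ₜ[k] algebraMap k A t) = _
    have h1 : (1 : MvPolynomial (Fin d) k) ⊗ₜ[k] algebraMap k A t =
        algebraMap (MvPolynomial (Fin d) k) (MvPolynomial (Fin d) k ⊗[k] A) (C t) := by
      have e1 : (1 : MvPolynomial (Fin d) k) ⊗ₜ[k] algebraMap k A t =
          (t • (1 : MvPolynomial (Fin d) k)) ⊗ₜ[k] (1 : A) := by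
        rw [Algebra.algebraMap_eq_smul_one, TensorProduct.smul_tmul]
      have e2 : (t • (1 : MvPolynomial (Fin d) k)) = C t := by
        rw [← MvPolynomial.algebraMap_eq, Algebra.algebraMap_eq_smul_one]
      rw [e1, e2, Algebra.TensorProduct.algebraMap_apply]
      rfl
    rw [h1, AlgHom.commutes]
  · intro i
    have := hstd i
    rw [AlgHom.commutes, ← map_pow] at this
    exact this
  · intro j
    exact hsing j
  · intro Λ _ _ φr hφr lam hlam
    letI algkΛ : Algebra k Λ :=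
      ((algebraMap (MvPolynomial (Fin d) k) Λ).comp (algebraMap k (MvPolynomial (Fin d) k))).toAlgebra
    haveI : IsScalarTower k (MvPolynomial (Fin d) k) Λ := IsScalarTower.of_algebraMap_eq fun _ => rfl
    let φ : A →ₐ[k] Λ :=
      { toRingHom := φr
        commutes' := fun t => (hφr t).trans rfl }
    let ψA' : MvPolynomial (Fin d) k ⊗[k] A →ₐ[MvPolynomial (Fin d) k] Λ :=
      Algebra.TensorProduct.lift (Algebra.ofId _ Λ) φ (fun _ _ => Commute.all _ _)
    have h2 : ∀ a : A, ψA' ((1 : MvPolynomial (Fin d) k) ⊗ₜ[k] a) = φr a := fun a => by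
      rw [Algebra.TensorProduct.lift_tmul, map_one, one_mul]; rfl
    obtain ⟨ψ, hψ⟩ := huniv Λ ψA' lam (by
      intro i
      rw [AlgHom.commutes, hlam i]
      exact Finset.sum_congr rfl fun j _ => by rw [h2])
    refine ⟨ψ, fun a => ?_⟩
    show ψ (α ((1 : MvPolynomial (Fin d) k) ⊗ₜ[k] a)) = _
    rw [hψ, h2]

end Groth.Agent.H5.Sep
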