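import Mathlib
import Groth.Prelude.Def_Smoothing
import Groth.Agent.Lib.Helper5.Sep.D
import Groth.Agent.Lib.Helper5.Sep.E
import Groth.Agent.Lib.Helper5.Sep.F3
import Groth.Agent.Lib.Helper5.Sep.G2
import Groth.Agent.Lib.Helper5.Des.Z5

set_option autoImplicit false
universe u
open TensorProduct MvPolynomial

namespace Groth.Agent.H5.Sep

/-- transfer of a resolution over `R = k[x]` to a resolution over `k`. -/
theorem resolvable_transfer {k R A Cs Λ : Type u} [Field k] [CommRing R] [Algebra k R]
    [Algebra.FinitePresentation k R] [Algebra.FormallySmooth k R]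
    [CommRing A] [Algebra k A] [CommRing Cs] [Algebra R Cs] [CommRing Λ] [Algebra k Λ]
    [Algebra R Λ] [IsScalarTower k R Λ] (φ : A →ₐ[k] Λ) (ψC : Cs →ₐ[R] Λ) (α : A →+* Cs)
    (hαk : ∀ t : k, α (algebraMap k A t) = algebraMap R Cs (algebraMap k R t))
    (hψα : ∀ a, ψC (α a) = φ a)
    (hsing : (Smoothing.singularIdeal k A).map α ≤ Smoothing.singularIdeal R Cs)
    (𝔮 : Ideal Λ) (hres : Smoothing.Resolvable R ψC 𝔮) : Smoothing.Resolvable k φ 𝔮 := by
  obtain ⟨B', _, _, hfp, g, h, hgh, hle, hnot⟩ := hres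
  haveI := hfp
  letI algkB' : Algebra k B' := ((algebraMap R B').comp (algebraMap k R)).toAlgebra
  haveI : IsScalarTower k R B' := IsScalarTower.of_algebraMap_eq fun _ => rfl
  haveI : Algebra.FinitePresentation k B' := Algebra.FinitePresentation.trans k R B'
  let g' : A →ₐ[k] B' :=
    { toRingHom := (g : Cs →+* B').comp α
      commutes' := fun t => by
        show g (α (algebraMap k A t)) = algebraMap R B' (algebraMap k R t)
        rw [hαk, AlgHom.commutes] }
  let h' : B' →ₐ[k] Λ :=
    { toRingHom := (h : B' →+* Λ)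
      commutes' := fun t => by
        show h (algebraMap R B' (algebraMap k R t)) = algebraMap k Λ t
        rw [AlgHom.commutes, ← IsScalarTower.algebraMap_apply] }
  have hsingB : Smoothing.singRad R h ≤ Smoothing.singRad k h' := by
    unfold Smoothing.singRad
    refine Ideal.radical_mono ?_
    have h1 : Smoothing.singularIdeal R B' ≤ Smoothing.singularIdeal k B' :=
      singularIdeal_le_of_tower
    rw [Ideal.map_le_iff_le_comap]
    intro x hx
    exact Ideal.mem_map_of_mem h' (h1 hx)
  refine ⟨B', inferInstance, algkB', inferInstance, g', h', ?_, ?_, ?_⟩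
  · ext a
    show h (g (α a)) = φ a
    have := DFunLike.congr_fun hgh (α a)
    rw [AlgHom.comp_apply] at this
    rw [this, hψα]
  · refine le_trans ?_ (le_trans hle hsingB)
    unfold Smoothing.singRad
    rw [Ideal.radical_le_radical_iff]
    refine le_trans ?_ Ideal.le_radical
    rw [Ideal.map_le_iff_le_comap]
    intro a ha
    rw [Ideal.mem_comap, ← hψα]
    exact Ideal.mem_map_of_mem ψC (hsing (Ideal.mem_map_of_mem α ha))
  · exact fun hle' => hnot (le_trans hsingB hle')

set_option maxHeartbeats 2000000 in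
theorem main6823 {k A Λ : Type u} [Field k] [CommRing A] [Algebra k A]
    [Algebra.FinitePresentation k A] [CommRing Λ] [Algebra k Λ] [IsNoetherianRing Λ]
    (φ : A →ₐ[k] Λ) (𝔮 : Ideal Λ) [𝔮.IsPrime]
    (hmin : 𝔮 ∈ (Smoothing.singRad k φ).minimalPrimes)
    [IsRegularLocalRing (Localization.AtPrime 𝔮)]
    [Algebra.IsGeometricallyReduced k 𝔮.ResidueField] : Smoothing.Resolvable k φ 𝔮 := by
  classical
  obtain ⟨d, hd⟩ := Groth.Agent.H5.FSm.exists_nat_ringKrullDim (Localization.AtPrime 𝔮)
  rcases Nat.eq_zero_or_pos d with hd0 | hdpos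
  · -- the case `d = 0`
    subst hd0
    have hd' : ringKrullDim (Localization.AtPrime 𝔮) = 0 := by simpa using hd
    refine resolvable_of_indSmooth_loc (R' := k) (Λq := Localization.AtPrime 𝔮) φ 𝔮 ?_ hd'
      (indSmooth_localization_of_dim_zero 𝔮 hd')
    intro r hr
    exact IsUnit.mk0 r (fun h => hr (by rw [h, map_zero]; exact 𝔮.zero_mem))
  · obtain ⟨r, rfl⟩ : ∃ r, d = r + 1 := ⟨d - 1, by omega⟩
    -- the ideal `H Λ`
    have hmin' : 𝔮 ∈ ((Smoothing.singularIdeal k A).map φ).minimalPrimes := by
      rw [← Ideal.radical_minimalPrimes]; exact hmin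
    obtain ⟨n, hn, hpow⟩ := exists_pow_map_le _ 𝔮 hmin'
    haveI : IsNoetherianRing A := Algebra.FiniteType.isNoetherianRing k A
    obtain ⟨s, as, has⟩ := Submodule.fg_iff_exists_fin_generating_family.mp
      (IsNoetherian.noetherian (Smoothing.singularIdeal k A))
    have hasmem : ∀ j, as j ∈ Smoothing.singularIdeal k A := fun j => by
      rw [← has]; exact Submodule.subset_span ⟨j, rfl⟩
    have hsm : ∀ j, Algebra.Smooth k (Localization.Away (as j)) := fun j =>
      smooth_away_of_mem_singularIdeal _ (hasmem j)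
    obtain ⟨Cs, _, _, fpC, α, c, hc, hαk, hstd, hsing, huniv⟩ :=
      exists_construction (r + 1) s n as hsm
    haveI := fpC
    -- the parameters
    obtain ⟨π, hπspan, hπn, hπann⟩ := main2109' 𝔮 _ hmin'.1.2 n (c * 8) (r + 1) hn
      (by omega) hpow hd
    have hHΛ : (Smoothing.singularIdeal k A).map φ = Ideal.span (Set.range fun j => φ (as j)) := by
      have : Smoothing.singularIdeal k A = Ideal.span (Set.range as) := has.symm
      rw [this, Ideal.map_span, ← Set.range_comp]
      rfl
    have hπn' : ∀ i, ∃ cf : Fin s → Λ, ∑ j, cf j * φ (as j) = π i ^ n := fun i =>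
      Ideal.mem_span_range_iff_exists_fun.mp (hHΛ ▸ hπn i)
    choose lam hlam using hπn'
    have hπ𝔮 : ∀ i, π i ∈ 𝔮 := by
      intro i
      rw [← IsLocalization.AtPrime.to_map_mem_maximal_iff (Localization.AtPrime 𝔮) 𝔮,
        ← Localization.AtPrime.map_eq_maximalIdeal, ← hπspan]
      exact Ideal.subset_span ⟨i, rfl⟩
    -- the algebra structure on `Λ`
    letI algRΛ : Algebra (MvPolynomial (Fin (r + 1)) k) Λ :=
      (aeval π : MvPolynomial (Fin (r + 1)) k →ₐ[k] Λ).toRingHom.toAlgebra
    have halg : ∀ p : MvPolynomial (Fin (r + 1)) k,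
        algebraMap (MvPolynomial (Fin (r + 1)) k) Λ p = aeval π p := fun _ => rfl
    haveI : IsScalarTower k (MvPolynomial (Fin (r + 1)) k) Λ :=
      IsScalarTower.of_algebraMap_eq fun t => by
        rw [halg, AlgHom.commutes]
    have halgX : ∀ i, algebraMap (MvPolynomial (Fin (r + 1)) k) Λ (X i) = π i := fun i => by
      rw [halg, aeval_X]
    obtain ⟨ψC, hψC⟩ := huniv Λ (φ : A →+* Λ)
      (fun t => by
        rw [halg, aeval_C]
        exact φ.commutes t)
      lam (fun i => by rw [halgX]; exact (hlam i).symm)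
    -- resolve over `R`
    have hres : Smoothing.Resolvable (MvPolynomial (Fin (r + 1)) k) ψC 𝔮 := by
      obtain ⟨K, hKdef⟩ : ∃ K : Ideal (MvPolynomial (Fin (r + 1)) k),
          K = Ideal.span (Set.range fun i : Fin (r + 1) =>
            ((X i : MvPolynomial (Fin (r + 1)) k) ^ c) ^ 8) := ⟨_, rfl⟩
      have hK' : K = Ideal.span (Set.range fun i : Fin (r + 1) =>
          (X i : MvPolynomial (Fin (r + 1)) k) ^ (c * 8)) := by
        rw [hKdef]
        congr 2
        funext i
        rw [pow_mul]
      have hspan' : Ideal.span (Set.range fun i : Fin (r + 1) =>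
          algebraMap Λ (Localization.AtPrime 𝔮)
            (algebraMap (MvPolynomial (Fin (r + 1)) k) Λ (X i))) =
          𝔮.map (algebraMap Λ (Localization.AtPrime 𝔮)) := by
        rw [← hπspan]
        congr 2
        funext i
        rw [halgX]
      refine Groth.Agent.H5.Des.resolvable_induction ψC 𝔮 r
        (fun i => (X i : MvPolynomial (Fin (r + 1)) k) ^ c) ?_ ?_ ?_ ?_
        (R' := MvPolynomial (Fin (r + 1)) k ⧸ K)
        (A' := Cs ⧸ K.map (algebraMap (MvPolynomial (Fin (r + 1)) k) Cs))
        (Λ' := Λ ⧸ K.map (algebraMap (MvPolynomial (Fin (r + 1)) k) Λ))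
        Ideal.Quotient.mk_surjective Ideal.Quotient.mk_surjective Ideal.Quotient.mk_surjective
        ?_ ?_ ?_ (Groth.Agent.H5.Des.phiK K ψC) (fun a => rfl) ?_
      · intro i
        rw [map_pow, halgX]
        exact Ideal.pow_mem_of_mem _ (hπ𝔮 i) _ hc
      · intro i y hy
        exact ann_cond_mvPolynomial c i y hy
      · intro i y hy
        simp only [map_pow, halgX] at hy ⊢
        have hset : (fun j => (π j ^ c) ^ 8) '' {j : Fin (r + 1) | j < i} =
            Set.range fun j : {j : Fin (r + 1) // (j : ℕ) < (i : ℕ)} => π j ^ (c * 8) := by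
          ext y
          constructor
          · rintro ⟨j, hj, rfl⟩
            exact ⟨⟨j, Fin.lt_def.mp hj⟩, pow_mul (π j) c 8⟩
          · rintro ⟨⟨j, hj⟩, rfl⟩
            exact ⟨j, Fin.lt_def.mpr hj, (pow_mul (π j) c 8).symm⟩
        rw [hset] at hy ⊢
        refine ann_cond_pow _ (π i) c hc ?_ y hy
        intro z hz
        have := hπann i (Ideal.Quotient.mk _ z)
        rw [← map_pow, ← map_mul, ← map_mul, Ideal.Quotient.eq_zero_iff_mem,
          Ideal.Quotient.eq_zero_iff_mem] at this
        exact this hz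
      · intro i
        exact hstd i
      · rw [Ideal.Quotient.algebraMap_eq, Ideal.mk_ker, hKdef]
      · rw [Ideal.Quotient.algebraMap_eq, Ideal.mk_ker, Ideal.Quotient.algebraMap_eq, Ideal.mk_ker]
      · rw [Ideal.Quotient.algebraMap_eq, Ideal.mk_ker, Ideal.Quotient.algebraMap_eq, Ideal.mk_ker]
      · exact resolvable_reduced 𝔮 hd hspan' K (c * 8) (by omega) hK'
          (Groth.Agent.H5.Des.phiK K ψC)
    -- transfer to `k`
    refine resolvable_transfer φ ψC α (fun t => by rw [hαk]; rfl) hψC ?_ 𝔮 hres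
    rw [Ideal.map_le_iff_le_comap, ← has]
    show Ideal.span (Set.range as) ≤ _
    rw [Ideal.span_le]
    rintro _ ⟨j, rfl⟩
    exact hsing j

end Groth.Agent.H5.Sep
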